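import Mathlib
import Groth.Agent.Lib.Helper2.DimFG
import Groth.Agent.Lib.Helper8.J2.J2

/-! Helper8: heights in quotients of polynomial rings over a field by `c` equations. -/

set_option autoImplicit false
universe u

namespace Groth.Agent.H8.GCI

open MvPolynomial

variable {k : Type u} [Field k] {n c : ℕ}

/-- `ht Q + dim P/Q = n` in a polynomial ring over a field -/
theorem height_add_dim_quotient (Q : Ideal (MvPolynomial (Fin n) k)) [Q.IsPrime] :
    (Q.height : WithBot ℕ∞) + ringKrullDim (MvPolynomial (Fin n) k ⧸ Q) = n := by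
  rw [Groth.Agent.H2.DimFG.height_add_ringKrullDim_quotient k (MvPolynomial (Fin n) k) Q,
    Groth.Agent.H2.DimFG.ringKrullDim_mvPolynomial_fin]

theorem spanFinrank_span_range_le {R : Type*} [CommRing R] (r : Fin c → R) :
    (Ideal.span (Set.range r)).spanFinrank ≤ c := by
  classical
  have h1 := Submodule.spanFinrank_span_le_ncard_of_finite (R := R) (M := R)
    (s := Set.range r) (Set.finite_range r)
  refine h1.trans ?_
  rw [← Set.image_univ]
  refine (Set.ncard_image_le (Set.finite_univ)).trans ?_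
  simp

/-- Krull: `ht Q ≤ ht (Q/J) + c` -/
theorem height_le_height_map_add {R : Type*} [CommRing R] [IsNoetherianRing R]
    (r : Fin c → R) (Q : Ideal R) [Q.IsPrime] (hJQ : Ideal.span (Set.range r) ≤ Q) :
    Q.height ≤ (Q.map (Ideal.Quotient.mk (Ideal.span (Set.range r)))).height + c := by
  refine (Ideal.height_le_height_add_spanFinrank_of_le hJQ).trans ?_
  gcongr
  exact_mod_cast spanFinrank_span_range_le r

section

variable (r : Fin c → MvPolynomial (Fin n) k)

/-- the ideal of relations -/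
noncomputable abbrev JJ : Ideal (MvPolynomial (Fin n) k) := Ideal.span (Set.range r)

theorem ringKrullDim_quot_quot (q : Ideal (MvPolynomial (Fin n) k ⧸ JJ r)) :
    ringKrullDim ((MvPolynomial (Fin n) k ⧸ JJ r) ⧸ q) =
      ringKrullDim (MvPolynomial (Fin n) k ⧸ q.comap (Ideal.Quotient.mk (JJ r))) := by
  let f : MvPolynomial (Fin n) k →+* (MvPolynomial (Fin n) k ⧸ JJ r) ⧸ q :=
    (Ideal.Quotient.mk q).comp (Ideal.Quotient.mk (JJ r))
  have hf : Function.Surjective f :=
    Ideal.Quotient.mk_surjective.comp Ideal.Quotient.mk_surjective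
  have hker : RingHom.ker f = q.comap (Ideal.Quotient.mk (JJ r)) := by
    ext x
    simp only [f, RingHom.mem_ker, RingHom.comp_apply, Ideal.Quotient.eq_zero_iff_mem,
      Ideal.mem_comap]
  exact (ringKrullDim_eq_of_ringEquiv
    ((Ideal.quotEquivOfEq hker.symm).trans (RingHom.quotientKerEquivOfSurjective hf))).symm

variable (hcn : c ≤ n)
  (hdim : ringKrullDim (MvPolynomial (Fin n) k ⧸ JJ r) = ((n - c : ℕ) : WithBot ℕ∞))

include hcn hdim in
/-- in a global complete intersection, `ht q + c = ht Q`. -/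
theorem height_add_eq (q : Ideal (MvPolynomial (Fin n) k ⧸ JJ r)) [q.IsPrime] :
    q.height + c = (q.comap (Ideal.Quotient.mk (JJ r))).height := by
  set Q := q.comap (Ideal.Quotient.mk (JJ r)) with hQ
  haveI : Q.IsPrime := Ideal.comap_isPrime _ _
  have hJQ : JJ r ≤ Q := by
    intro x hx
    rw [hQ, Ideal.mem_comap, Ideal.Quotient.eq_zero_iff_mem.mpr hx]
    exact Ideal.zero_mem _
  have hmap : Q.map (Ideal.Quotient.mk (JJ r)) = q :=
    Ideal.map_comap_of_surjective _ Ideal.Quotient.mk_surjective q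
  have h1 := height_le_height_map_add r Q hJQ
  rw [hmap] at h1
  have h2 := Groth.Agent.H8.J2.height_add_ringKrullDim_quotient_le q
  rw [hdim, ringKrullDim_quot_quot] at h2
  have h3 := height_add_dim_quotient Q
  haveI : Nontrivial (MvPolynomial (Fin n) k ⧸ Q) :=
    Ideal.Quotient.nontrivial_iff.mpr (Ideal.IsPrime.ne_top')
  obtain ⟨e, he⟩ := Groth.Agent.H2.DimFG.exists_ringKrullDim_eq_nat k (MvPolynomial (Fin n) k ⧸ Q)
  obtain ⟨a, ha⟩ : ∃ a : ℕ, Q.height = a :=
    ⟨Q.height.toNat, (ENat.natCast_toNat (Ideal.height_ne_top_of_isPrime)).symm⟩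
  obtain ⟨b, hb⟩ : ∃ b : ℕ, q.height = b :=
    ⟨q.height.toNat, (ENat.natCast_toNat (Ideal.height_ne_top_of_isPrime)).symm⟩
  rw [he, ha] at h3
  rw [he, hb] at h2
  rw [ha, hb] at h1
  rw [ha, hb]
  have h1' : a ≤ b + c := by exact_mod_cast h1
  have h2' : b + e ≤ n - c := by
    have : ((b + e : ℕ) : WithBot ℕ∞) ≤ ((n - c : ℕ) : WithBot ℕ∞) := by
      push_cast
      exact h2
    exact_mod_cast this
  have h3' : a + e = n := by exact_mod_cast h3
  have : b + c = a := by omega
  exact_mod_cast this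

end

end Groth.Agent.H8.GCI
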