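import Mathlib
import Groth.Agent.Lib.Helper8.GCI.Ht
import Groth.Agent.Lib.Helper6.CMKit
import Groth.Agent.Lib.Helper1.CMFlat
import Groth.Agent.Lib.Helper2.ConeCM

/-! Helper8: global complete intersections over a field: the equations form a regular sequence at
every prime, and the quotient is Cohen–Macaulay. -/

set_option autoImplicit false
universe u

namespace Groth.Agent.H8.GCI

open MvPolynomial Groth.Agent.H6

variable {k : Type u} [Field k] {n c : ℕ} (r : Fin c → MvPolynomial (Fin n) k)

section Local

variable (Q : Ideal (MvPolynomial (Fin n) k)) [Q.IsPrime]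

/-- the images of the equations in the local ring at `Q` -/
noncomputable def locList : List (Localization.AtPrime Q) :=
  List.ofFn fun i => algebraMap (MvPolynomial (Fin n) k) (Localization.AtPrime Q) (r i)

lemma length_locList : (locList r Q).length = c := by simp [locList]

lemma ofList_locList :
    Ideal.ofList (locList r Q) =
      (JJ r).map (algebraMap (MvPolynomial (Fin n) k) (Localization.AtPrime Q)) := by
  unfold locList Ideal.ofList JJ
  rw [Ideal.map_span]
  congr 1
  ext x
  simp only [List.mem_ofFn, Set.mem_ofPred_eq, Set.mem_image, Set.mem_range]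
  constructor
  · rintro ⟨i, rfl⟩
    exact ⟨r i, ⟨i, rfl⟩, rfl⟩
  · rintro ⟨_, ⟨i, rfl⟩, rfl⟩
    exact ⟨i, rfl⟩

variable (hJQ : JJ r ≤ Q)

include hJQ in
lemma mem_maximalIdeal_of_mem_locList :
    ∀ x ∈ locList r Q, x ∈ IsLocalRing.maximalIdeal (Localization.AtPrime Q) := by
  intro x hx
  unfold locList at hx
  rw [List.mem_ofFn] at hx
  obtain ⟨i, rfl⟩ := hx
  rw [IsLocalization.AtPrime.to_map_mem_maximal_iff (Localization.AtPrime Q) Q]
  exact hJQ (Ideal.subset_span ⟨i, rfl⟩)

include hJQ in
lemma comap_map_mk : (Q.map (Ideal.Quotient.mk (JJ r))).comap (Ideal.Quotient.mk (JJ r)) = Q := by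
  rw [Ideal.comap_map_of_surjective _ Ideal.Quotient.mk_surjective, sup_eq_left,
    ← RingHom.ker_eq_comap_bot, Ideal.mk_ker]
  exact hJQ

include hJQ in
lemma isPrime_map_mk : (Q.map (Ideal.Quotient.mk (JJ r))).IsPrime :=
  Ideal.isPrime_map_quotientMk_of_isPrime hJQ

include hJQ in
/-- the quotient of the local ring at `Q` is the local ring of the quotient. -/
lemma isLocalization_quot :
    haveI := isPrime_map_mk r Q hJQ
    IsLocalization.AtPrime
      (Localization.AtPrime Q ⧸ (JJ r).map (algebraMap (MvPolynomial (Fin n) k)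
        (Localization.AtPrime Q)))
      (Q.map (Ideal.Quotient.mk (JJ r))) := by
  haveI := isPrime_map_mk r Q hJQ
  have h : Algebra.algebraMapSubmonoid (MvPolynomial (Fin n) k ⧸ JJ r) Q.primeCompl =
      (Q.map (Ideal.Quotient.mk (JJ r))).primeCompl := by
    ext x
    obtain ⟨y, rfl⟩ := Ideal.Quotient.mk_surjective x
    simp only [Algebra.algebraMapSubmonoid, Submonoid.mem_map, Ideal.mem_primeCompl_iff]
    constructor
    · rintro ⟨z, hz, hzy⟩ hy
      have h1 : z - y ∈ JJ r := by
        rw [← Ideal.Quotient.eq]
        exact hzy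
      have h2 : y ∈ Q := by
        have := (Ideal.mem_comap (f := Ideal.Quotient.mk (JJ r))).mpr hy
        rwa [comap_map_mk r Q hJQ] at this
      apply hz
      have := Q.add_mem (hJQ h1) h2
      simpa using this
    · intro hy
      refine ⟨y, ?_, rfl⟩
      intro hyQ
      exact hy (Ideal.mem_map_of_mem _ hyQ)
  unfold IsLocalization.AtPrime
  rw [← h]
  infer_instance

variable (hcn : c ≤ n)
  (hdim : ringKrullDim (MvPolynomial (Fin n) k ⧸ JJ r) = ((n - c : ℕ) : WithBot ℕ∞))

include hJQ hcn hdim in
lemma supportDim_quot_add :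
    Module.supportDim (Localization.AtPrime Q)
      (Localization.AtPrime Q ⧸ (Ideal.ofList (locList r Q) •
        (⊤ : Submodule (Localization.AtPrime Q) (Localization.AtPrime Q)))) +
      ((locList r Q).length : WithBot ℕ∞) =
    Module.supportDim (Localization.AtPrime Q) (Localization.AtPrime Q) := by
  haveI := isPrime_map_mk r Q hJQ
  haveI := isLocalization_quot r Q hJQ
  have h0 : Ideal.ofList (locList r Q) •
      (⊤ : Submodule (Localization.AtPrime Q) (Localization.AtPrime Q)) =
      (JJ r).map (algebraMap (MvPolynomial (Fin n) k) (Localization.AtPrime Q)) := by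
    rw [smul_eq_mul, Ideal.mul_top, ofList_locList]
  rw [Module.supportDim_eq_of_equiv (Submodule.quotEquivOfEq _ _ h0),
    Module.supportDim_quotient_eq_ringKrullDim, Module.supportDim_self_eq_ringKrullDim,
    IsLocalization.AtPrime.ringKrullDim_eq_height (Q.map (Ideal.Quotient.mk (JJ r)))
      (Localization.AtPrime Q ⧸ (JJ r).map (algebraMap (MvPolynomial (Fin n) k)
        (Localization.AtPrime Q))),
    IsLocalization.AtPrime.ringKrullDim_eq_height Q (Localization.AtPrime Q), length_locList]
  have h1 := height_add_eq r hcn hdim (Q.map (Ideal.Quotient.mk (JJ r)))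
  rw [comap_map_mk r Q hJQ] at h1
  exact_mod_cast h1

include hJQ hcn hdim in
/-- the equations form a regular sequence in the local ring at `Q`. -/
theorem isWeaklyRegular_locList :
    RingTheory.Sequence.IsWeaklyRegular (Localization.AtPrime Q) (locList r Q) := by
  have hcm : LocCoh.IsCohenMacaulayModule (Localization.AtPrime Q) (Localization.AtPrime Q) :=
    (Groth.Agent.H1.CMFlat.isCohenMacaulayLocalRing_of_isRegularLocalRing
      (Localization.AtPrime Q)).supportDim_eq_depth
  exact CM.isWeaklyRegular_of_supportDim (locList r Q) (Localization.AtPrime Q) hcm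
    (mem_maximalIdeal_of_mem_locList r Q hJQ) (supportDim_quot_add r Q hJQ hcn hdim)

include hJQ hcn hdim in
theorem isRegular_locList :
    RingTheory.Sequence.IsRegular (Localization.AtPrime Q) (locList r Q) := by
  refine ⟨isWeaklyRegular_locList r Q hJQ hcn hdim, ?_⟩
  rw [smul_eq_mul, Ideal.mul_top, ofList_locList]
  intro h
  have h1 : (JJ r).map (algebraMap (MvPolynomial (Fin n) k) (Localization.AtPrime Q)) ≤
      IsLocalRing.maximalIdeal (Localization.AtPrime Q) := by
    rw [← Localization.AtPrime.map_eq_maximalIdeal]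
    exact Ideal.map_mono hJQ
  rw [← h] at h1
  exact (IsLocalRing.maximalIdeal.isMaximal _).ne_top (top_le_iff.mp h1)

include hJQ hcn hdim in
/-- the localized quotient is a Cohen–Macaulay module -/
theorem cm_quot_locList :
    LocCoh.IsCohenMacaulayModule (Localization.AtPrime Q)
      (Localization.AtPrime Q ⧸ (Ideal.ofList (locList r Q) •
        (⊤ : Submodule (Localization.AtPrime Q) (Localization.AtPrime Q)))) := by
  have hcm : LocCoh.IsCohenMacaulayModule (Localization.AtPrime Q) (Localization.AtPrime Q) :=
    (Groth.Agent.H1.CMFlat.isCohenMacaulayLocalRing_of_isRegularLocalRing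
      (Localization.AtPrime Q)).supportDim_eq_depth
  exact CM.cm_quot_ofList (locList r Q) (Localization.AtPrime Q) hcm
    (mem_maximalIdeal_of_mem_locList r Q hJQ) (isWeaklyRegular_locList r Q hJQ hcn hdim)

include hJQ hcn hdim in
theorem cm_localizedModule :
    LocCoh.IsCohenMacaulayModule (Localization.AtPrime Q)
      (LocalizedModule Q.primeCompl (MvPolynomial (Fin n) k ⧸ JJ r)) := by
  have h1 := cm_quot_locList r Q hJQ hcn hdim
  have h0 : Ideal.ofList (locList r Q) •
      (⊤ : Submodule (Localization.AtPrime Q) (Localization.AtPrime Q)) =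
      (JJ r).localized' (Localization.AtPrime Q) Q.primeCompl
        (Algebra.linearMap (MvPolynomial (Fin n) k) (Localization.AtPrime Q)) := by
    rw [smul_eq_mul, Ideal.mul_top, ofList_locList, Submodule.localized'_eq_span]
    rfl
  let e0 : LocalizedModule Q.primeCompl (MvPolynomial (Fin n) k ⧸ JJ r) ≃ₗ[MvPolynomial (Fin n) k]
      (Localization.AtPrime Q ⧸ (JJ r).localized' (Localization.AtPrime Q) Q.primeCompl
        (Algebra.linearMap (MvPolynomial (Fin n) k) (Localization.AtPrime Q))) :=
    IsLocalizedModule.linearEquiv Q.primeCompl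
      (LocalizedModule.mkLinearMap Q.primeCompl (MvPolynomial (Fin n) k ⧸ JJ r))
      ((JJ r).toLocalizedQuotient' (Localization.AtPrime Q) Q.primeCompl
        (Algebra.linearMap (MvPolynomial (Fin n) k) (Localization.AtPrime Q)))
  let e : LocalizedModule Q.primeCompl (MvPolynomial (Fin n) k ⧸ JJ r) ≃ₗ[Localization.AtPrime Q]
      (Localization.AtPrime Q ⧸ (JJ r).localized' (Localization.AtPrime Q) Q.primeCompl
        (Algebra.linearMap (MvPolynomial (Fin n) k) (Localization.AtPrime Q))) :=
    LinearEquiv.extendScalarsOfIsLocalization Q.primeCompl (Localization.AtPrime Q) e0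
  exact CM.cm_of_linearEquiv ((Submodule.quotEquivOfEq _ _ h0).trans e.symm) h1

end Local

section Global

variable (hcn : c ≤ n)
  (hdim : ringKrullDim (MvPolynomial (Fin n) k ⧸ JJ r) = ((n - c : ℕ) : WithBot ℕ∞))

include hcn hdim in
/-- a global complete intersection over a field is a Cohen–Macaulay ring. -/
theorem isCohenMacaulayRing_quot :
    LocCoh.IsCohenMacaulayRing (MvPolynomial (Fin n) k ⧸ JJ r) :=
  Groth.Agent.H2.ConeCM.cmRing_quot_of_forall (JJ r) fun Q _ hJQ =>
    cm_localizedModule r Q hJQ hcn hdim

end Global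

end Groth.Agent.H8.GCI
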