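import Mathlib
import Groth.Prelude
import Groth.Agent.Lib.Helper8.GCI.Ht

/-! Helper8: global / local complete intersections over a field localize. -/

set_option autoImplicit false
universe u

namespace Groth.Agent.H8.GCI

open MvPolynomial

variable {k : Type u} [Field k]

/-- Contraction of maximal ideals along `k`-algebra maps into finite type `k`-algebras. -/
theorem isMaximal_comap_of_finiteType {A B : Type*} [CommRing A] [CommRing B] [Algebra k A]
    [Algebra k B] [Algebra.FiniteType k B] (f : A →ₐ[k] B) (m : Ideal B) [hm : m.IsMaximal] :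
    (m.comap f).IsMaximal := by
  letI := Ideal.Quotient.field m
  haveI : Algebra.FiniteType k (B ⧸ m) :=
    Algebra.FiniteType.of_surjective (Ideal.Quotient.mkₐ k m) Ideal.Quotient.mk_surjective
  haveI : Module.Finite k (B ⧸ m) := finite_of_finite_type_of_isJacobsonRing k (B ⧸ m)
  let ι : (A ⧸ m.comap f) →ₐ[k] (B ⧸ m) := Ideal.quotientMapₐ m f le_rfl
  have hι : Function.Injective ι := Ideal.quotientMap_injective
  haveI : (m.comap f).IsPrime := Ideal.comap_isPrime _ _
  haveI : IsDomain (A ⧸ m.comap f) := (Ideal.Quotient.isDomain_iff_prime _).2 inferInstance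
  haveI : Module.Finite k (A ⧸ m.comap f) := Module.Finite.of_injective ι.toLinearMap hι
  have : IsField (A ⧸ m.comap f) :=
    isField_of_isIntegral_of_isField' (R := k) (Field.toIsField k)
  exact Ideal.Quotient.maximal_of_isField _ this

section pres

variable {n c : ℕ} {S : Type u} [CommRing S] [Algebra k S]
  (φ : MvPolynomial (Fin n) k →ₐ[k] S) (r : Fin c → MvPolynomial (Fin n) k)
  (hcn : c ≤ n) (hsurj : Function.Surjective φ)
  (hker : RingHom.ker φ.toRingHom = Ideal.span (Set.range r))
  (hdim : ringKrullDim S = ((n - c : ℕ) : WithBot ℕ∞))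

include hcn hsurj hker hdim in
theorem height_add_eq_of_pres (q : Ideal S) [q.IsPrime] :
    q.height + c = (q.comap φ.toRingHom).height := by
  let e : (MvPolynomial (Fin n) k ⧸ JJ r) ≃+* S :=
    (Ideal.quotEquivOfEq hker.symm).trans (RingHom.quotientKerEquivOfSurjective hsurj)
  have hdim' : ringKrullDim (MvPolynomial (Fin n) k ⧸ JJ r) = ((n - c : ℕ) : WithBot ℕ∞) := by
    rw [ringKrullDim_eq_of_ringEquiv e, hdim]
  haveI : (q.comap (e : (MvPolynomial (Fin n) k ⧸ JJ r) →+* S)).IsPrime := Ideal.comap_isPrime _ _
  have h := height_add_eq r hcn hdim' (q.comap (e : (MvPolynomial (Fin n) k ⧸ JJ r) →+* S))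
  have h1 : (q.comap (e : (MvPolynomial (Fin n) k ⧸ JJ r) →+* S)).height = q.height :=
    RingEquiv.height_comap e q
  have h2 : (q.comap (e : (MvPolynomial (Fin n) k ⧸ JJ r) →+* S)).comap
      (Ideal.Quotient.mk (JJ r)) = q.comap φ.toRingHom := by
    rw [Ideal.comap_comap]
    congr 1
  rw [h1, h2] at h
  exact h

include hcn hsurj hker hdim in
theorem height_of_isMaximal (q : Ideal S) [hq : q.IsMaximal] :
    q.height = ((n - c : ℕ) : ℕ∞) := by
  have h := height_add_eq_of_pres φ r hcn hsurj hker hdim q
  haveI : (q.comap φ.toRingHom).IsMaximal := Ideal.comap_isMaximal_of_surjective _ hsurj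
  have h2 := Groth.Agent.H2.DimFG.height_eq_ringKrullDim_of_isMaximal k (MvPolynomial (Fin n) k)
    (q.comap φ.toRingHom)
  rw [Groth.Agent.H2.DimFG.ringKrullDim_mvPolynomial_fin] at h2
  have h3 : (q.comap φ.toRingHom).height = (n : ℕ∞) := by exact_mod_cast h2
  rw [h3] at h
  haveI : IsNoetherianRing S := isNoetherianRing_of_surjective _ _ φ.toRingHom hsurj
  obtain ⟨b, hb⟩ : ∃ b : ℕ, q.height = b :=
    ⟨q.height.toNat, (ENat.natCast_toNat (Ideal.height_ne_top_of_isPrime)).symm⟩
  rw [hb] at h ⊢
  have : b + c = n := by exact_mod_cast h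
  have : b = n - c := by omega
  exact_mod_cast this

include hcn hsurj hker hdim in
theorem ringKrullDim_away (g : S) [Nontrivial (Localization.Away g)] :
    ringKrullDim (Localization.Away g) = ((n - c : ℕ) : WithBot ℕ∞) := by
  haveI : Algebra.FiniteType k S := Algebra.FiniteType.of_surjective φ hsurj
  haveI : Algebra.FiniteType k (Localization.Away g) :=
    Algebra.FiniteType.trans (S := S) inferInstance inferInstance
  have key : ∀ m : Ideal (Localization.Away g), m.IsMaximal → m.height = ((n - c : ℕ) : ℕ∞) := by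
    intro m hm
    haveI : (m.comap (IsScalarTower.toAlgHom k S (Localization.Away g))).IsMaximal :=
      isMaximal_comap_of_finiteType _ m
    have h1 := height_of_isMaximal φ r hcn hsurj hker hdim
      (m.comap (IsScalarTower.toAlgHom k S (Localization.Away g)))
    rw [← h1]
    exact (IsLocalization.height_under (Submonoid.powers g) m).symm
  apply le_antisymm
  · rw [ringKrullDim_le_iff_isMaximal_height_le]
    intro m hm
    rw [key m hm]
    rfl
  · obtain ⟨m, hm⟩ := Ideal.exists_maximal (Localization.Away g)
    have := Ideal.height_le_ringKrullDim_of_isPrime (I := m)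
    rw [key m hm] at this
    exact this

variable (g : S)

/-- the presentation of `S_g`. -/
noncomputable def phi' : MvPolynomial (Fin (n + 1)) k →ₐ[k] Localization.Away g :=
  aeval (Fin.cons (α := fun _ => Localization.Away g) (IsLocalization.Away.invSelf g)
    (fun i => algebraMap S (Localization.Away g) (φ (X i))))

/-- the relations of `S_g`. -/
noncomputable def rel' (G : MvPolynomial (Fin n) k) : Fin (c + 1) → MvPolynomial (Fin (n + 1)) k :=
  Fin.cons (α := fun _ => MvPolynomial (Fin (n + 1)) k) (X 0 * rename Fin.succ G - 1)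
    (fun i => rename Fin.succ (r i))

@[simp] lemma phi'_X_zero : phi' φ g (X 0) = IsLocalization.Away.invSelf g := by
  simp [phi']

@[simp] lemma phi'_X_succ (i : Fin n) :
    phi' φ g (X i.succ) = algebraMap S (Localization.Away g) (φ (X i)) := by
  simp [phi']

lemma phi'_rename (p : MvPolynomial (Fin n) k) :
    phi' φ g (rename Fin.succ p) = algebraMap S (Localization.Away g) (φ p) := by
  have : (phi' φ g).comp (rename Fin.succ) =
      (IsScalarTower.toAlgHom k S (Localization.Away g)).comp φ := by
    apply MvPolynomial.algHom_ext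
    intro i
    simp
  exact congr($this p)

include hsurj in
lemma phi'_surjective : Function.Surjective (phi' φ g) := by
  intro z
  obtain ⟨m, a, hz⟩ := IsLocalization.Away.surj g z
  obtain ⟨p, rfl⟩ := hsurj a
  refine ⟨rename Fin.succ p * X 0 ^ m, ?_⟩
  rw [map_mul, map_pow, phi'_rename, phi'_X_zero, ← hz, mul_assoc, ← mul_pow,
    IsLocalization.Away.mul_invSelf, one_pow, mul_one]

include hsurj hker in
lemma ker_phi' (G : MvPolynomial (Fin n) k) (hG : φ G = g) :
    RingHom.ker (phi' φ g).toRingHom = Ideal.span (Set.range (rel' r G)) := by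
  apply le_antisymm
  · set K := Ideal.span (Set.range (rel' r G)) with hK
    let α : MvPolynomial (Fin n) k →+* MvPolynomial (Fin (n + 1)) k ⧸ K :=
      (Ideal.Quotient.mk K).comp (rename Fin.succ : _ →ₐ[k] _).toRingHom
    have hα : RingHom.ker φ.toRingHom ≤ RingHom.ker α := by
      rw [hker, Ideal.span_le]
      rintro _ ⟨i, rfl⟩
      show α (r i) = 0
      simp only [α, RingHom.comp_apply]
      rw [Ideal.Quotient.eq_zero_iff_mem]
      exact Ideal.subset_span ⟨i.succ, by simp [rel']⟩
    let β : S →+* MvPolynomial (Fin (n + 1)) k ⧸ K :=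
      φ.toRingHom.liftOfSurjective hsurj ⟨α, hα⟩
    have hβ : ∀ p, β (φ p) = α p := fun p =>
      RingHom.liftOfRightInverse_comp_apply _ _ _ _ p
    have hmul : α G * Ideal.Quotient.mk K (X 0) = 1 := by
      simp only [α, RingHom.comp_apply]
      rw [← map_mul, ← map_one (Ideal.Quotient.mk K), Ideal.Quotient.eq]
      refine Ideal.subset_span ⟨0, ?_⟩
      simp only [rel', Fin.cons_zero, AlgHom.toRingHom_eq_coe, RingHom.coe_coe]
      ring
    have hunit : IsUnit (β g) := by
      rw [← hG, hβ]
      exact IsUnit.of_mul_eq_one _ hmul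
    let ψ : Localization.Away g →+* MvPolynomial (Fin (n + 1)) k ⧸ K :=
      IsLocalization.Away.lift g hunit
    have hψ : ∀ s, ψ (algebraMap S _ s) = β s := fun s => IsLocalization.Away.lift_eq g hunit s
    have key : ψ.comp (phi' φ g).toRingHom = Ideal.Quotient.mk K := by
      apply MvPolynomial.ringHom_ext
      · intro a
        have h1 : (phi' φ g) (C a) = algebraMap S (Localization.Away g) (φ (C a)) := by
          rw [← phi'_rename]
          simp
        simp only [RingHom.comp_apply, AlgHom.toRingHom_eq_coe, RingHom.coe_coe]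
        rw [h1, hψ, hβ]
        simp [α]
      · intro j
        simp only [RingHom.comp_apply, AlgHom.toRingHom_eq_coe, RingHom.coe_coe]
        refine Fin.cases ?_ (fun i => ?_) j
        · rw [phi'_X_zero]
          have h1 : ψ (IsLocalization.Away.invSelf g) * β g = 1 := by
            rw [← hψ, ← map_mul, mul_comm, IsLocalization.Away.mul_invSelf, map_one]
          have h2 : Ideal.Quotient.mk K (X 0) * β g = 1 := by
            rw [← hG, hβ, mul_comm]
            exact hmul
          calc ψ (IsLocalization.Away.invSelf g)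
              = ψ (IsLocalization.Away.invSelf g) * (β g * Ideal.Quotient.mk K (X 0)) := by
                rw [mul_comm (β g), h2, mul_one]
            _ = Ideal.Quotient.mk K (X 0) := by rw [← mul_assoc, h1, one_mul]
        · rw [phi'_X_succ, hψ, hβ]
          simp [α]
    intro x hx
    rw [RingHom.mem_ker] at hx
    have h1 := congr($key x)
    simp only [RingHom.comp_apply] at h1
    rw [hx, map_zero] at h1
    exact Ideal.Quotient.eq_zero_iff_mem.mp h1.symm
  · rw [Ideal.span_le]
    rintro _ ⟨j, rfl⟩
    rw [SetLike.mem_coe, RingHom.mem_ker]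
    refine Fin.cases ?_ (fun i => ?_) j
    · simp only [rel', Fin.cons_zero, AlgHom.toRingHom_eq_coe, RingHom.coe_coe, map_sub, map_mul,
        map_one, phi'_X_zero, phi'_rename, hG]
      rw [mul_comm, IsLocalization.Away.mul_invSelf, sub_self]
    · simp only [rel', Fin.cons_succ, AlgHom.toRingHom_eq_coe, RingHom.coe_coe, phi'_rename]
      have : φ (r i) = 0 := by
        have : r i ∈ RingHom.ker φ.toRingHom := by
          rw [hker]; exact Ideal.subset_span ⟨i, rfl⟩
        exact this
      rw [this, map_zero]

end pres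

theorem isGlobalCI_away (S : Type u) [CommRing S] [Algebra k S] (g : S)
    (h : Synt.IsGlobalCI k S) : Synt.IsGlobalCI k (Localization.Away g) := by
  by_cases hs : Subsingleton (Localization.Away g)
  · exact Or.inl hs
  rw [not_subsingleton_iff_nontrivial] at hs
  rcases h with h | ⟨n, c, hcn, φ, r, hsurj, hker, hdim⟩
  · exfalso
    have : (1 : Localization.Away g) = 0 := by
      rw [← map_one (algebraMap S (Localization.Away g)), Subsingleton.elim (1 : S) 0, map_zero]
    exact one_ne_zero this
  · obtain ⟨G, hG⟩ := hsurj g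
    refine Or.inr ⟨n + 1, c + 1, Nat.succ_le_succ hcn, phi' φ g, rel' r G,
      phi'_surjective φ hsurj g, ker_phi' φ r hsurj hker g G hG, ?_⟩
    rw [ringKrullDim_away φ r hcn hsurj hker hdim g, Nat.succ_sub_succ]

theorem isGlobalCI_of_algEquiv {S T : Type u} [CommRing S] [Algebra k S] [CommRing T] [Algebra k T]
    (e : S ≃ₐ[k] T) (h : Synt.IsGlobalCI k S) : Synt.IsGlobalCI k T := by
  rcases h with h | ⟨n, c, hcn, φ, r, hsurj, hker, hdim⟩
  · exact Or.inl (e.symm.injective.subsingleton)
  · refine Or.inr ⟨n, c, hcn, (e : S →ₐ[k] T).comp φ, r, e.surjective.comp hsurj, ?_, ?_⟩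
    · rw [← hker]
      ext x
      simp only [RingHom.mem_ker, AlgHom.toRingHom_eq_coe, RingHom.coe_coe, AlgHom.comp_apply,
        AlgHom.coe_coe]
      exact e.map_eq_zero_iff
    · rw [← ringKrullDim_eq_of_ringEquiv e.toRingEquiv, hdim]

theorem isLCIOver_away (S : Type u) [CommRing S] [Algebra k S] (g : S)
    (h : Synt.IsLCIOver k S) : Synt.IsLCIOver k (Localization.Away g) := by
  obtain ⟨hft, hloc⟩ := h
  refine ⟨Algebra.FiniteType.trans (S := S) hft inferInstance, fun p' => ?_⟩
  obtain ⟨f, hf, hgci⟩ := hloc ⟨p'.asIdeal.comap (algebraMap S (Localization.Away g)), inferInstance⟩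
  refine ⟨algebraMap S (Localization.Away g) f, hf, ?_⟩
  have h1 := isGlobalCI_away (Localization.Away f) (algebraMap S (Localization.Away f) g) hgci
  let e : Localization.Away (algebraMap S (Localization.Away f) g) ≃ₐ[S]
      Localization.Away (algebraMap S (Localization.Away g) f) :=
    IsLocalization.algEquiv (Submonoid.powers (g * f)) _ _
  exact isGlobalCI_of_algEquiv (e.restrictScalars k) h1

end Groth.Agent.H8.GCI
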