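import Mathlib
import Groth.Prelude
import Groth.Agent.Lib.Helper8.GCI.Ht

/-! Helper8: smooth algebras over a field are local complete intersections. -/

set_option autoImplicit false
universe u

namespace Groth.Agent.H8.GCI

open MvPolynomial

variable {k : Type u} [Field k]

/-- quasi-finite algebras do not raise dimension. -/
theorem ringKrullDim_le_of_quasiFinite (A B : Type*) [CommRing A] [CommRing B] [Algebra A B]
    [Algebra.QuasiFinite A B] : ringKrullDim B ≤ ringKrullDim A := by
  refine Order.krullDim_le_of_strictMono (PrimeSpectrum.comap (algebraMap A B)) ?_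
  intro P Q hPQ
  refine lt_of_le_of_ne ?_ ?_
  · exact Ideal.comap_mono hPQ.le
  · intro heq
    apply hPQ.ne
    ext1
    exact Algebra.QuasiFinite.eq_of_le_of_under_eq (R := A) P.asIdeal Q.asIdeal hPQ.le
      (congrArg PrimeSpectrum.asIdeal heq)

theorem ringKrullDim_le_of_etale {d : ℕ} {T : Type u} [CommRing T] [Algebra k T]
    (g : MvPolynomial (Fin d) k →ₐ[k] T) (hg : g.toRingHom.Etale) :
    ringKrullDim T ≤ d := by
  algebraize [g.toRingHom]
  have := ringKrullDim_le_of_quasiFinite (MvPolynomial (Fin d) k) T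
  rwa [Groth.Agent.H2.DimFG.ringKrullDim_mvPolynomial_fin] at this

/-- Krull: `n - c ≤ dim k[x_1..x_n]/(f_1..f_c)` when nontrivial. -/
theorem le_ringKrullDim_quot {n c : ℕ} (r : Fin c → MvPolynomial (Fin n) k)
    [Nontrivial (MvPolynomial (Fin n) k ⧸ JJ r)] :
    ((n - c : ℕ) : WithBot ℕ∞) ≤ ringKrullDim (MvPolynomial (Fin n) k ⧸ JJ r) := by
  have hne : JJ r ≠ ⊤ := Ideal.Quotient.nontrivial_iff.mp inferInstance
  obtain ⟨M, hM, hle⟩ := Ideal.exists_le_maximal _ hne
  have h1 := height_le_ringKrullDim_quotient_add_spanFinrank hle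
  have h2 := Groth.Agent.H2.DimFG.height_eq_ringKrullDim_of_isMaximal k (MvPolynomial (Fin n) k) M
  rw [Groth.Agent.H2.DimFG.ringKrullDim_mvPolynomial_fin] at h2
  rw [h2] at h1
  obtain ⟨e, he⟩ := Groth.Agent.H2.DimFG.exists_ringKrullDim_eq_nat k (MvPolynomial (Fin n) k ⧸ JJ r)
  rw [he] at h1 ⊢
  have h3 := spanFinrank_span_range_le r
  have h4 : n ≤ e + (JJ r).spanFinrank := by exact_mod_cast h1
  have : n - c ≤ e := by
    have : (JJ r).spanFinrank ≤ c := h3
    omega
  exact_mod_cast this

theorem isGlobalCI_of_isStandardSmooth (T : Type u) [CommRing T] [Algebra k T]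
    [Algebra.IsStandardSmooth k T] : Synt.IsGlobalCI k T := by
  by_cases hs : Subsingleton T
  · exact Or.inl hs
  rw [not_subsingleton_iff_nontrivial] at hs
  obtain ⟨ι, σ, _, _, ⟨P₀⟩⟩ := Algebra.IsStandardSmooth.out (R := k) (S := T)
  let P := P₀.reindex (Finite.equivFin ι).symm (Finite.equivFin σ).symm
  have hcn : Nat.card σ ≤ Nat.card ι := Nat.card_le_card_of_injective P₀.map P₀.map_inj
  have hsurj : Function.Surjective (IsScalarTower.toAlgHom k P.Ring T) := P.algebraMap_surjective
  have hker : RingHom.ker (IsScalarTower.toAlgHom k P.Ring T).toRingHom =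
      Ideal.span (Set.range P.relation) := P.span_range_relation_eq_ker.symm
  refine Or.inr ⟨Nat.card ι, Nat.card σ, hcn, IsScalarTower.toAlgHom k P.Ring T, P.relation, hsurj,
    hker, le_antisymm ?_ ?_⟩
  · haveI : Algebra.IsStandardSmoothOfRelativeDimension (Nat.card ι - Nat.card σ) k T :=
      ⟨ι, σ, inferInstance, inferInstance, P₀, rfl⟩
    obtain ⟨g, hg⟩ := Algebra.IsStandardSmoothOfRelativeDimension.exists_etale_mvPolynomial
      (Nat.card ι - Nat.card σ) k T
    exact ringKrullDim_le_of_etale g hg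
  · let e : (MvPolynomial (Fin (Nat.card ι)) k ⧸ JJ P.relation) ≃+* T :=
      (Ideal.quotEquivOfEq hker.symm).trans (RingHom.quotientKerEquivOfSurjective hsurj)
    haveI : Nontrivial (MvPolynomial (Fin (Nat.card ι)) k ⧸ JJ P.relation) :=
      e.symm.injective.nontrivial
    rw [← ringKrullDim_eq_of_ringEquiv e]
    exact le_ringKrullDim_quot P.relation

theorem isLCIOver_of_smooth (S : Type u) [CommRing S] [Algebra k S] [Algebra.Smooth k S] :
    Synt.IsLCIOver k S := by
  refine ⟨inferInstance, fun p => ?_⟩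
  haveI : Algebra.IsSmoothAt k p.asIdeal := inferInstance
  obtain ⟨g, hg, hstd⟩ := Algebra.IsSmoothAt.exists_notMem_isStandardSmooth k p.asIdeal
  exact ⟨g, hg, isGlobalCI_of_isStandardSmooth _⟩

end Groth.Agent.H8.GCI
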