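import Mathlib
import Groth.Prelude
import Groth.Agent.Lib.Helper8.GCI.CM
import Groth.Agent.Lib.Helper6.Liai3

/-! Helper8: local complete intersections over a field are Cohen–Macaulay. -/

set_option autoImplicit false
universe u

namespace Groth.Agent.H8.GCI

open MvPolynomial Groth.Agent.H6

variable {k : Type u} [Field k]

theorem nonempty_atPrime_ringEquiv_of_eq {R : Type u} [CommRing R] (p q : Ideal R) [p.IsPrime]
    [q.IsPrime] (h : p = q) : Nonempty (Localization.AtPrime p ≃+* Localization.AtPrime q) := by
  subst h; exact ⟨RingEquiv.refl _⟩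

theorem isCohenMacaulayRing_of_subsingleton (T : Type u) [CommRing T] [Subsingleton T] :
    LocCoh.IsCohenMacaulayRing T :=
  { isCohenMacaulayLocalRing_localization := fun p hp =>
      absurd (Subsingleton.elim _ _ : p = ⊤) hp.ne_top }

theorem isCohenMacaulayRing_of_isGlobalCI (T : Type u) [CommRing T] [Algebra k T]
    (h : Synt.IsGlobalCI k T) : LocCoh.IsCohenMacaulayRing T := by
  rcases h with h | ⟨n, c, hcn, φ, r, hsurj, hker, hdim⟩
  · exact isCohenMacaulayRing_of_subsingleton T
  · let e : (MvPolynomial (Fin n) k ⧸ JJ r) ≃+* T :=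
      (Ideal.quotEquivOfEq hker.symm).trans (RingHom.quotientKerEquivOfSurjective hsurj)
    have hdim' : ringKrullDim (MvPolynomial (Fin n) k ⧸ JJ r) = ((n - c : ℕ) : WithBot ℕ∞) := by
      rw [ringKrullDim_eq_of_ringEquiv e, hdim]
    haveI := isCohenMacaulayRing_quot r hcn hdim'
    exact Groth.Agent.H6.Liai.cm_of_ringEquiv e

theorem isCohenMacaulayRing_of_isLCIOver (S : Type u) [CommRing S] [Algebra k S]
    (h : Synt.IsLCIOver k S) : LocCoh.IsCohenMacaulayRing S := by
  obtain ⟨hft, hloc⟩ := h
  haveI : IsNoetherianRing S := Algebra.FiniteType.isNoetherianRing k S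
  refine { isCohenMacaulayLocalRing_localization := fun p hp => ?_ }
  obtain ⟨g, hg, hgci⟩ := hloc ⟨p, hp⟩
  haveI := isCohenMacaulayRing_of_isGlobalCI (k := k) (Localization.Away g) hgci
  have hdisj : Disjoint (Submonoid.powers g : Set S) (p : Set S) :=
    (Ideal.disjoint_powers_iff_notMem_of_isPrime _).mpr hg
  set p' := p.map (algebraMap S (Localization.Away g)) with hp'
  haveI : p'.IsPrime :=
    IsLocalization.isPrime_of_isPrime_disjoint (Submonoid.powers g) _ _ hp hdisj
  have hcomap : p'.comap (algebraMap S (Localization.Away g)) = p :=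
    IsLocalization.comap_map_of_isPrime_disjoint (Submonoid.powers g) _ hp hdisj
  haveI := LocCoh.IsCohenMacaulayRing.isCohenMacaulayLocalRing_localization (R := Localization.Away g) p'
  let e1 := IsLocalization.localizationLocalizationAtPrimeIsoLocalization (Submonoid.powers g) p'
  haveI : (p'.comap (algebraMap S (Localization.Away g))).IsPrime := Ideal.comap_isPrime _ _
  have e2 : Localization.AtPrime p' ≃+*
      Localization.AtPrime (p'.comap (algebraMap S (Localization.Away g))) :=
    e1.symm.toRingEquiv
  obtain ⟨e3⟩ := nonempty_atPrime_ringEquiv_of_eq _ p hcomap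
  exact Groth.Agent.H6.Liai.cmLocal_of_ringEquiv (e2.trans e3)

end Groth.Agent.H8.GCI
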